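import Cfsg.Agent.Lib.Helper98.Oh0
import Cfsg.Agent.Lib.Helper50.StdForms

set_option autoImplicit false
set_option linter.unusedSectionVars false
set_option linter.unusedVariables false

/-!
# K-OhP (S5974, architect helper38): vocabulary for quadratic forms in ANY characteristic

`pB Q` is the polar form of the quadratic form `Q` (symmetric; alternating in characteristic two), `QIso Q y` says
that the endomorphism `y` preserves `Q`, `PlusQ Q W` that the subspace `W` contains a totally singular subspace of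
half its dimension.  `NonDeg`, `Ort`, `Iso`, `cOf` are helper98's (`Helper98.Sy`), `Inv`, `V0`, `V1` too
(`Helper98.Elus`).  `tPlus i j` is the type of an orthogonal sum of `j` minimal pieces, `Good` the arithmetic
criterion for the existence of a fixed plus type subspace.
-/

namespace Cfsg.Agent.Lib.Helper38.OhP

open Module Cfsg.Agent.Lib.Helper98.Elus Cfsg.Agent.Lib.Helper98.Sy

universe u
variable {F : Type u} [Field F] {V : Type u} [AddCommGroup V] [Module F V]

/-- the polar form of `Q` as a bilinear form -/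
noncomputable abbrev pB (Q : QuadraticForm F V) : LinearMap.BilinForm F V := QuadraticMap.polarBilin Q

theorem pB_apply (Q : QuadraticForm F V) (a b : V) : pB Q a b = Q (a + b) - Q a - Q b := rfl

theorem pB_symm (Q : QuadraticForm F V) (a b : V) : pB Q a b = pB Q b a := by
  rw [pB_apply, pB_apply, add_comm a b]; ring

theorem pB_self (Q : QuadraticForm F V) (a : V) : pB Q a a = 2 * Q a := by
  rw [pB_apply]
  have h : Q (a + a) = 4 * Q a := by
    have := QuadraticMap.map_smul Q (2 : F) a
    rw [two_smul, smul_eq_mul] at this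
    rw [this]; ring
  rw [h]; ring

/-- `y` preserves the quadratic form `Q` -/
def QIso (Q : QuadraticForm F V) (y : V →ₗ[F] V) : Prop := ∀ v, Q (y v) = Q v

theorem QIso.iso {Q : QuadraticForm F V} {y : V →ₗ[F] V} (h : QIso Q y) : Iso (pB Q) y := by
  intro a b
  rw [pB_apply, pB_apply, ← map_add, h, h, h]

/-- `W` contains a totally singular (`Q u = 0`) subspace of half its dimension -/
def PlusQ (Q : QuadraticForm F V) (W : Submodule F V) : Prop :=
  ∃ U : Submodule F V, U ≤ W ∧ (∀ u ∈ U, Q u = 0) ∧ 2 * finrank F U = finrank F W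

theorem plusQ_bot (Q : QuadraticForm F V) : PlusQ Q (⊥ : Submodule F V) :=
  ⟨⊥, le_rfl, fun u hu => by rw [(Submodule.mem_bot F).mp hu]; simp, by simp⟩

/-- for `2 ≠ 0`: `PlusQ Q` is helper98's `Plus (pB Q)` -/
theorem plusQ_iff_plus (h2 : (2 : F) ≠ 0) (Q : QuadraticForm F V) (W : Submodule F V) :
    PlusQ Q W ↔ Cfsg.Agent.Lib.Helper98.Oh.Plus (pB Q) W := by
  constructor
  · rintro ⟨U, hUW, hU, hUd⟩
    exact ⟨U, hUW, fun u hu => by rw [pB_self, hU u hu, mul_zero], hUd⟩
  · rintro ⟨U, hUW, hU, hUd⟩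
    refine ⟨U, hUW, fun u hu => ?_, hUd⟩
    have := hU u hu
    rw [pB_self] at this
    rcases mul_eq_zero.mp this with h | h
    · exact absurd h h2
    · exact h

/-- the type of an orthogonal sum of `j` minimal pieces (`i` = order of `q` modulo `r`) -/
def tPlus (i j : ℕ) : Prop := Odd i ∨ Even j

/-- the arithmetic criterion: `j` pieces (of dimension `c` each) inside `V1` (`T` pieces) and a subspace of dimension
`m - j * c` of `V0` (dimension `k`) make a plus type subspace of dimension `m` of a plus type space -/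
def Good (i c T k m j : ℕ) : Prop :=
  (m - j * c = 0 ∧ tPlus i j) ∨ (0 < m - j * c ∧ m - j * c < k) ∨
    (m - j * c = k ∧ 0 < k ∧ (tPlus i j ↔ tPlus i T))

/-- the condition of S5974 for odd `r` (with `n = 2 * d`) -/
def RhsOdd (i c d m : ℕ) : Prop :=
  (Odd i ∧ c ≤ m ∧ m % c ≤ (2 * d) % c) ∨
  (Even i ∧
    (((2 * d) % c = 0 ∧ (Odd ((2 * d) / i) ∨ (m % c = 0 ∧ Even (m / i)))) ∨
      (i ≤ m ∧ ((m % c < (2 * d) % c ∧ 0 < m % c) ∨
        ((2 * d) % c = m % c ∧ 0 < m % c ∧ Even ((2 * d + m - 2 * ((2 * d) % c)) / i)) ∨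
        (0 < (2 * d) % c ∧ m % c = 0 ∧ Even (m / i))))))

/-- the standard plus type quadratic form -/
noncomputable abbrev Q0 (d : ℕ) (F : Type u) [Field F] : QuadraticForm F (Fin d ⊕ Fin d → F) :=
  Cfsg.Agent.Lib.Helper50.QPlus d F

/-- the family of subspaces of S5974 (a plus type nondegenerate `m`-space, written out as in the statement) -/
def IsHyp (d m : ℕ) (W : Submodule F (Fin d ⊕ Fin d → F)) : Prop :=
  Module.finrank F ↥W = m ∧
    (∀ u ∈ W, u ≠ 0 → ∃ v ∈ W, QuadraticMap.polar (Cfsg.quadFormPlus d F) u v ≠ 0) ∧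
    ∃ U : Submodule F (Fin d ⊕ Fin d → F), U ≤ W ∧ 2 * Module.finrank F ↥U = m ∧
      ∀ u ∈ U, Cfsg.quadFormPlus d F u = 0

end Cfsg.Agent.Lib.Helper38.OhP
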