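import Cfsg.Agent.Lib.Helper38.OhP.Leaves
import Cfsg.Agent.Lib.Helper62.OPb4

set_option autoImplicit false
set_option linter.unusedVariables false
set_option linter.style.haveILetI false
set_option maxHeartbeats 1600000

/-!
# K-OhP (S5974): the statement from the leaves
-/

namespace Cfsg.Agent.Lib.Helper38.OhP

open Module Cfsg.Agent.Lib.Helper98.Elus Cfsg.Agent.Lib.Helper98.Sy

universe u
variable {F : Type u} [Field F]

/-- matrix identities `x * x = ±1` as identities of endomorphisms -/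
theorem toLin_mul_self_one (d : ℕ) (x : GL (Fin d ⊕ Fin d) F)
    (h : (x : Matrix (Fin d ⊕ Fin d) (Fin d ⊕ Fin d) F) * (x : Matrix (Fin d ⊕ Fin d) (Fin d ⊕ Fin d) F) = 1) :
    Matrix.toLin' (x : Matrix (Fin d ⊕ Fin d) (Fin d ⊕ Fin d) F) *
      Matrix.toLin' (x : Matrix (Fin d ⊕ Fin d) (Fin d ⊕ Fin d) F) = 1 := by
  rw [Module.End.mul_eq_comp, ← Matrix.toLin'_mul, h, Matrix.toLin'_one]
  rfl

theorem toLin_mul_self_neg (d : ℕ) (x : GL (Fin d ⊕ Fin d) F)
    (h : (x : Matrix (Fin d ⊕ Fin d) (Fin d ⊕ Fin d) F) * (x : Matrix (Fin d ⊕ Fin d) (Fin d ⊕ Fin d) F) = -1) :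
    Matrix.toLin' (x : Matrix (Fin d ⊕ Fin d) (Fin d ⊕ Fin d) F) *
      Matrix.toLin' (x : Matrix (Fin d ⊕ Fin d) (Fin d ⊕ Fin d) F) = -1 := by
  rw [Module.End.mul_eq_comp, ← Matrix.toLin'_mul, h, map_neg, Matrix.toLin'_one]
  rfl

theorem mul_self_val (d : ℕ) (x : GL (Fin d ⊕ Fin d) F) :
    ((x ^ 2 : GL (Fin d ⊕ Fin d) F) : Matrix (Fin d ⊕ Fin d) (Fin d ⊕ Fin d) F) =
      (x : Matrix (Fin d ⊕ Fin d) (Fin d ⊕ Fin d) F) * (x : Matrix (Fin d ⊕ Fin d) (Fin d ⊕ Fin d) F) := by
  rw [pow_two, Units.val_mul]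

/-- S5974 with the family written as `IsHyp d m`. -/
theorem main [Fintype F] {p : ℕ} [Fact p.Prime] [CharP F p] {q : ℕ} (hq : Fintype.card F = q)
    (d m : ℕ) (hd : 4 ≤ d) (hm : 2 ≤ m) (hme : Even m) (hmd : m < d)
    (r : ℕ) [Fact r.Prime] (hr : r = 2 ∨ r ≠ p)
    (hrΩ : r ∣ Nat.card {W : Submodule F (Fin d ⊕ Fin d → F) // IsHyp d m W})
    (i c : ℕ) (hi : i = orderOf (q : ZMod r)) (hc : c = if Even i then i else 2 * i) :
    (∀ x : GL (Fin d ⊕ Fin d) F, x ∈ Cfsg.Geo.omegaGL (Cfsg.quadFormPlus d F) →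
      (∃ z : F, ((x ^ r : GL (Fin d ⊕ Fin d) F) : Matrix (Fin d ⊕ Fin d) (Fin d ⊕ Fin d) F) = z • (1 : Matrix (Fin d ⊕ Fin d) (Fin d ⊕ Fin d) F)) →
      (∀ z : F, (x : Matrix (Fin d ⊕ Fin d) (Fin d ⊕ Fin d) F) ≠ z • (1 : Matrix (Fin d ⊕ Fin d) (Fin d ⊕ Fin d) F)) →
      ∃ W : Submodule F (Fin d ⊕ Fin d → F), IsHyp d m W ∧
        W.map (Matrix.toLin' (x : Matrix (Fin d ⊕ Fin d) (Fin d ⊕ Fin d) F)) ≤ W) ↔
    ((r = 2 ∧ ((2 * d) % 4 = 2 ∨ m % 4 = 0 ∨ q % 4 = 1)) ∨
     (r ≠ p ∧ 2 < r ∧ Odd i ∧ c ≤ m ∧ m % c ≤ (2 * d) % c) ∨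
     (r ≠ p ∧ 2 < r ∧ Even i ∧
       (((2 * d) % c = 0 ∧ (Odd ((2 * d) / i) ∨ (m % c = 0 ∧ Even (m / i)))) ∨
        (i ≤ m ∧ ((m % c < (2 * d) % c ∧ 0 < m % c) ∨
                  ((2 * d) % c = m % c ∧ 0 < m % c ∧ Even ((2 * d + m - 2 * ((2 * d) % c)) / i)) ∨
                  (0 < (2 * d) % c ∧ m % c = 0 ∧ Even (m / i))))))) := by
  classical
  subst hq
  subst hi
  have hrP : r.Prime := Fact.out
  have hpP : p.Prime := Fact.out
  obtain ⟨f, _, hF⟩ := FiniteField.card F p
  have hfin := L.finrank_Q0 (F := F) d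
  have hVnd := L.nonDeg_Q0 (F := F) d
  have hVp := L.plusQ_Q0 (F := F) d
  -- back to the concrete formulation
  have hback : ∀ (x : GL (Fin d ⊕ Fin d) F),
      (∃ W : Submodule F (Fin d ⊕ Fin d → F),
        Inv (Matrix.toLin' (x : Matrix (Fin d ⊕ Fin d) (Fin d ⊕ Fin d) F)) W ∧
        NonDeg (pB (Q0 d F)) W ∧ finrank F W = m ∧ PlusQ (Q0 d F) W) →
      ∃ W : Submodule F (Fin d ⊕ Fin d → F), IsHyp d m W ∧
        W.map (Matrix.toLin' (x : Matrix (Fin d ⊕ Fin d) (Fin d ⊕ Fin d) F)) ≤ W := by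
    rintro x ⟨W, hWinv, hWnd, hWd, hWp⟩
    exact ⟨W, (L.isHyp_iff d m W).mpr ⟨hWd, hWnd, hWp⟩, (L.map_le_iff_inv' d _ W).mpr hWinv⟩
  by_cases hr2 : r = 2
  · -- `r = 2`
    subst hr2
    have hR : ((2 = 2 ∧ ((2 * d) % 4 = 2 ∨ m % 4 = 0 ∨ Fintype.card F % 4 = 1)) ∨
        (2 ≠ p ∧ 2 < 2 ∧ Odd (orderOf ((Fintype.card F : ℕ) : ZMod 2)) ∧ c ≤ m ∧ m % c ≤ (2 * d) % c) ∨
        (2 ≠ p ∧ 2 < 2 ∧ Even (orderOf ((Fintype.card F : ℕ) : ZMod 2)) ∧
          (((2 * d) % c = 0 ∧ (Odd ((2 * d) / orderOf ((Fintype.card F : ℕ) : ZMod 2)) ∨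
              (m % c = 0 ∧ Even (m / orderOf ((Fintype.card F : ℕ) : ZMod 2))))) ∨
            (orderOf ((Fintype.card F : ℕ) : ZMod 2) ≤ m ∧ ((m % c < (2 * d) % c ∧ 0 < m % c) ∨
              ((2 * d) % c = m % c ∧ 0 < m % c ∧
                Even ((2 * d + m - 2 * ((2 * d) % c)) / orderOf ((Fintype.card F : ℕ) : ZMod 2))) ∨
              (0 < (2 * d) % c ∧ m % c = 0 ∧ Even (m / orderOf ((Fintype.card F : ℕ) : ZMod 2)))))))) ↔
        ((2 * d) % 4 = 2 ∨ m % 4 = 0 ∨ Fintype.card F % 4 = 1) := by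
      constructor
      · rintro (⟨-, h⟩ | ⟨-, h, -⟩ | ⟨-, h, -⟩)
        · exact h
        · exact absurd h (lt_irrefl 2)
        · exact absurd h (lt_irrefl 2)
      · intro h
        exact Or.inl ⟨rfl, h⟩
    rw [hR]
    by_cases hp2 : p = 2
    · -- characteristic two
      subst hp2
      have hqe : Fintype.card F % 4 ≠ 1 := by
        rw [hF]
        have hf1 : 1 ≤ (f : ℕ) := f.pos
        obtain ⟨k, hk⟩ : ∃ k, (f : ℕ) = k + 1 := ⟨f - 1, by omega⟩
        rw [hk, pow_succ]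
        omega
      have hz1 : ∀ z : F, z * z = 1 → z = 1 := by
        intro z hz
        rcases mul_self_eq_one_iff.mp hz with h | h
        · exact h
        · rw [h, CharTwo.neg_eq]
      constructor
      · intro hL
        by_contra hcond
        push Not at hcond
        obtain ⟨hc1, hc2, -⟩ := hcond
        have hde : Even d := by
          rcases Nat.even_or_odd d with h | h
          · exact h
          · exfalso
            obtain ⟨k, hk⟩ := h
            omega
        obtain ⟨x, hxΩ, hxx, hns, hsing, hrk⟩ := L.exists_a_invol (F := F) d hde hd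
        obtain ⟨W, hW, hmap⟩ := hL x hxΩ ⟨1, by rw [mul_self_val, hxx, one_smul]⟩ hns
        obtain ⟨hWd, hWnd, hWp⟩ := (L.isHyp_iff d m W).mp hW
        have hWinv := (L.map_le_iff_inv' d _ W).mp hmap
        have hgg := toLin_mul_self_one d x hxx
        have h4 := L.four_dvd_finrank_of_inv (Q0 d F) hVnd _ hgg (L.qiso_of_mem_omegaGL d x hxΩ) hsing
          (by rw [hrk, hfin]) W hWinv hWnd
        rw [hWd] at h4
        obtain ⟨k, hk⟩ := hme
        omega
      · intro hcond x hxΩ hz hns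
        obtain ⟨z, hz⟩ := hz
        have hzz := L.scalar_sq_eq_one d (by omega) x hxΩ 2 z hz
        have hz1' := hz1 z hzz
        subst hz1'
        rw [mul_self_val, one_smul] at hz
        have hgg := toLin_mul_self_one d x hz
        have hcond' : Odd d ∨ 4 ∣ m := by
          rcases hcond with h | h | h
          · left
            rcases Nat.even_or_odd d with h' | h'
            · exfalso
              obtain ⟨k, hk⟩ := h'
              omega
            · exact h'
          · right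
            exact Nat.dvd_of_mod_eq_zero h
          · exact absurd h hqe
        exact hback x (L.exists_fixed_plus_char2 (Q0 d F) hVnd hVp d hfin _ hgg
          (L.qiso_of_mem_omegaGL d x hxΩ) m hme hmd hcond')
    · -- `q` odd
      have h2F : (2 : F) ≠ 0 := by
        intro h
        have h' : ((2 : ℕ) : F) = 0 := by exact_mod_cast h
        rw [CharP.cast_eq_zero_iff F p] at h'
        exact hp2 ((Nat.prime_dvd_prime_iff_eq hpP Nat.prime_two).mp h')
      have hsq : IsSquare (-1 : F) ↔ Fintype.card F % 4 ≠ 3 := FiniteField.isSquare_neg_one_iff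
      have hqodd : Fintype.card F % 2 = 1 := by
        rw [hF]
        have : Odd p := hpP.odd_of_ne_two hp2
        exact Nat.odd_iff.mp (this.pow)
      constructor
      · intro hL
        by_contra hcond
        push Not at hcond
        obtain ⟨hc1, hc2, hc3⟩ := hcond
        have hde : Even d := by
          rcases Nat.even_or_odd d with h | h
          · exact h
          · exfalso
            obtain ⟨k, hk⟩ := h
            omega
        have hq3 : Fintype.card F % 4 = 3 := by omega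
        have hns1 : ¬ IsSquare (-1 : F) := fun h => (hsq.mp h) hq3
        obtain ⟨x, hxΩ, hxx⟩ := Cfsg.Agent.Lib.Helper62.OPb.exists_sq_neg_one_of_even (F := F) h2F d hde
        have hz : ((x ^ 2 : GL (Fin d ⊕ Fin d) F) : Matrix (Fin d ⊕ Fin d) (Fin d ⊕ Fin d) F) =
            (-1 : F) • (1 : Matrix (Fin d ⊕ Fin d) (Fin d ⊕ Fin d) F) := by
          rw [mul_self_val, hxx, neg_one_smul]
        have hns : ∀ z : F, (x : Matrix (Fin d ⊕ Fin d) (Fin d ⊕ Fin d) F) ≠
            z • (1 : Matrix (Fin d ⊕ Fin d) (Fin d ⊕ Fin d) F) := by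
          intro z hxz
          apply hns1
          have h1 := hxx
          rw [hxz, Matrix.smul_mul, Matrix.mul_smul, Matrix.one_mul, smul_smul] at h1
          have hd0 : (⟨0, by omega⟩ : Fin d) = ⟨0, by omega⟩ := rfl
          have h2 := congrFun (congrFun h1 (Sum.inl ⟨0, by omega⟩)) (Sum.inl ⟨0, by omega⟩)
          simp only [Matrix.smul_apply, Matrix.one_apply_eq, smul_eq_mul, mul_one, Matrix.neg_apply] at h2
          exact ⟨z, h2.symm⟩
        obtain ⟨W, hW, hmap⟩ := hL x hxΩ ⟨-1, hz⟩ hns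
        obtain ⟨hWd, hWnd, hWp⟩ := (L.isHyp_iff d m W).mp hW
        have hWinv := (L.map_le_iff_inv' d _ W).mp hmap
        have hgg := toLin_mul_self_neg d x hxx
        have h4 := (L.plusQ_iff_of_sq_neg_one h2F hns1 (Q0 d F) hVnd _ hgg
          (L.qiso_of_mem_omegaGL d x hxΩ) W hWinv hWnd).mp hWp
        rw [hWd] at h4
        omega
      · intro hcond x hxΩ hz hns
        obtain ⟨z, hz⟩ := hz
        have hzz := L.scalar_sq_eq_one d (by omega) x hxΩ 2 z hz
        have hqi := L.qiso_of_mem_omegaGL d x hxΩ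
        rw [mul_self_val] at hz
        rcases mul_self_eq_one_iff.mp hzz with h | h
        · subst h
          rw [one_smul] at hz
          have hgg := toLin_mul_self_one d x hz
          exact hback x (L.exists_fixed_invol_q h2F (Q0 d F) hVnd _ hgg hqi m hme (by rw [hfin]; omega))
        · subst h
          rw [neg_one_smul] at hz
          have hgg := toLin_mul_self_neg d x hz
          by_cases hs : IsSquare (-1 : F)
          · obtain ⟨ω, hω⟩ := hs
            exact hback x (L.exists_fixed_sq_neg_one_split h2F (Q0 d F) hVnd _ hgg hqi ω hω.symm m hme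
              (by rw [hfin]; omega))
          · have hq3 : Fintype.card F % 4 = 3 := by
              by_contra h
              exact hs (hsq.mpr h)
            have htop := (L.plusQ_iff_of_sq_neg_one h2F hs (Q0 d F) hVnd _ hgg hqi ⊤
              (fun v _ => Submodule.mem_top) hVnd).mp hVp
            rw [finrank_top, hfin] at htop
            have hm4 : m % 4 = 0 := by
              rcases hcond with h | h | h
              · omega
              · exact h
              · omega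
            obtain ⟨W, hWinv, hWnd, hWd⟩ := L.exists_nonDeg_inv_sq_neg_one h2F (Q0 d F) hVnd _ hgg hqi m hme
              (by rw [hfin]; omega)
            have hWp := (L.plusQ_iff_of_sq_neg_one h2F hs (Q0 d F) hVnd _ hgg hqi W hWinv hWnd).mpr
              (by rw [hWd]; exact Nat.dvd_of_mod_eq_zero hm4)
            exact hback x ⟨W, hWinv, hWnd, hWd, hWp⟩
  · -- `r` odd
    have hrp : r ≠ p := hr.resolve_left hr2
    have hpr : p ≠ r := Ne.symm hrp
    have h2lt : 2 < r := lt_of_le_of_ne hrP.two_le (Ne.symm hr2)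
    have hrodd : Odd r := hrP.odd_of_ne_two hr2
    have hrF : (r : F) ≠ 0 := by
      intro h
      rw [CharP.cast_eq_zero_iff F p] at h
      exact hrp ((Nat.prime_dvd_prime_iff_eq hpP hrP).mp h).symm
    have hcc : c = cOf (orderOf ((Fintype.card F : ℕ) : ZMod r)) := by
      rw [hc]; rfl
    have hipos : 0 < orderOf ((Fintype.card F : ℕ) : ZMod r) := orderOf_card_pos p f hF r hpr
    have hce : Even c := by rw [hcc]; exact cOf_even _
    have hR : ((r = 2 ∧ ((2 * d) % 4 = 2 ∨ m % 4 = 0 ∨ Fintype.card F % 4 = 1)) ∨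
        (r ≠ p ∧ 2 < r ∧ Odd (orderOf ((Fintype.card F : ℕ) : ZMod r)) ∧ c ≤ m ∧ m % c ≤ (2 * d) % c) ∨
        (r ≠ p ∧ 2 < r ∧ Even (orderOf ((Fintype.card F : ℕ) : ZMod r)) ∧
          (((2 * d) % c = 0 ∧ (Odd ((2 * d) / orderOf ((Fintype.card F : ℕ) : ZMod r)) ∨
              (m % c = 0 ∧ Even (m / orderOf ((Fintype.card F : ℕ) : ZMod r))))) ∨
            (orderOf ((Fintype.card F : ℕ) : ZMod r) ≤ m ∧ ((m % c < (2 * d) % c ∧ 0 < m % c) ∨
              ((2 * d) % c = m % c ∧ 0 < m % c ∧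
                Even ((2 * d + m - 2 * ((2 * d) % c)) / orderOf ((Fintype.card F : ℕ) : ZMod r))) ∨
              (0 < (2 * d) % c ∧ m % c = 0 ∧ Even (m / orderOf ((Fintype.card F : ℕ) : ZMod r)))))))) ↔
        RhsOdd (orderOf ((Fintype.card F : ℕ) : ZMod r)) c d m := by
      unfold RhsOdd
      constructor
      · rintro (⟨h, -⟩ | ⟨-, -, h⟩ | ⟨-, -, h⟩)
        · exact absurd h hr2
        · exact Or.inl h
        · exact Or.inr h
      · rintro (h | h)
        · exact Or.inr (Or.inl ⟨hrp, h2lt, h⟩)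
        · exact Or.inr (Or.inr ⟨hrp, h2lt, h⟩)
    rw [hR]
    constructor
    · intro hL
      by_contra hRn
      -- the count
      have hm2 : m = 2 * (m / 2) := by
        obtain ⟨k, hk⟩ := hme
        omega
      have hw : ∃ j : ℕ, j < m / 2 ∧ (orderOf ((Fintype.card F : ℕ) : ZMod r) ∣ d - j ∨
          (Even (orderOf ((Fintype.card F : ℕ) : ZMod r)) ∧
            (d - j - 1) % orderOf ((Fintype.card F : ℕ) : ZMod r) =
              orderOf ((Fintype.card F : ℕ) : ZMod r) / 2)) := by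
        obtain ⟨j, hj, hdvd⟩ := L.exists_of_dvd_card_hyp (F := F) d (m / 2) (by omega) (by omega) r hrF
          (by rw [← hm2]; exact hrΩ)
        refine ⟨j, hj, ?_⟩
        apply L.order_cases (Fintype.card F) r (d - j) (d - j - 1) hr2 _ hdvd
        rw [hF]
        intro h
        exact hrp ((Nat.prime_dvd_prime_iff_eq hrP hpP).mp (hrP.dvd_of_dvd_pow h))
      obtain ⟨T, hT1, hTn, hal, hno⟩ := L.arith_derange _ c d m hipos hcc hd hm hme hmd hw hRn
      have hke : Even (2 * d - T * c) := by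
        rw [Nat.even_sub hTn]
        constructor
        · intro _
          exact Even.mul_left hce T
        · intro _
          exact even_two_mul d
      obtain ⟨V, _, _, _, Q, y, hV, hVp', hiso, hy, hy1, hdim, hV1, hV0⟩ :=
        L.exists_model_q (F := F) p f hF r hpr hr2 hrF _ c rfl hcc T (2 * d - T * c) hT1 hke hal
      have hdim' : finrank F V = 2 * d := by omega
      obtain ⟨x, hxΩ, hz, hns, hx⟩ := L.exists_gl_of_model d m (by omega) r hr2 Q y hV hVp' hdim' hiso hy hy1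
      obtain ⟨W, hW, hmap⟩ := hL x hxΩ hz hns
      obtain ⟨W', hW'inv, hW'nd, hW'd, hW'p⟩ := hx W hW hmap
      obtain ⟨j, hjT, hjm, hg⟩ := L.good_of_fixed Q hV hVp' p f hF r hpr hr2 hrF y hy hiso _ c rfl hcc T
        (2 * d - T * c) hV1 hV0 m W' hW'inv hW'nd hW'd hW'p
      exact hno j hjT hjm hg
    · intro hRo x hxΩ hz hns
      obtain ⟨z, hz⟩ := hz
      obtain ⟨y, hyiso, hyr, hy1, hyW⟩ := L.exists_normalized d (by omega) r hrodd x hxΩ z hz hns
      obtain ⟨T, hT1, hTn, hV1, hV0, hal⟩ := L.exists_shape (Q0 d F) hVnd hVp p f hF r hpr hr2 hrF y hyr hy1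
        hyiso _ c rfl hcc d hfin
      obtain ⟨j, hjT, hjm, hg⟩ := L.arith_fix _ c d m T hipos hcc hd hm hme hmd hT1 hTn hal hRo
      obtain ⟨W, hWinv, hWnd, hWd, hWp⟩ := L.fixed_of_good (Q0 d F) hVnd hVp p f hF r hpr hr2 hrF y hyr hyiso
        _ c rfl hcc T (2 * d - T * c) hV1 hV0 m hme j hjT hjm hg
      exact ⟨W, (L.isHyp_iff d m W).mpr ⟨hWd, hWnd, hWp⟩, hyW W hWinv⟩

end Cfsg.Agent.Lib.Helper38.OhP
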