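import Cfsg.Agent.Lib.Helper08.OhPI3
import Cfsg.Agent.Lib.Helper28.OhPA

/-!
# K-OhP (S5974), LEAF I4 (597427), written by the architect as a parallel hand: `x * x = -1`, `-1` a nonsquare:
an invariant nondegenerate subspace `W` is of plus type iff `4 ∣ finrank W`.
-/

set_option autoImplicit false
set_option linter.unusedSectionVars false
set_option linter.unusedVariables false

namespace Cfsg.Agent.Lib.Helper38.OhP

open Module Cfsg.Agent.Lib.Helper98.Elus Cfsg.Agent.Lib.Helper98.Sy Cfsg.Agent.Lib.Helper08.OhP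

universe u
variable {F : Type u} [Field F] {V : Type u} [AddCommGroup V] [Module F V]

/-- the value of `Q` on the plane `⟨u, x u⟩` -/
theorem Q_plane (h2 : (2 : F) ≠ 0) (Q : QuadraticForm F V) (x : V →ₗ[F] V) (hx : x * x = -1)
    (hiso : QIso Q x) (u : V) (a b : F) : Q (a • u + b • x u) = (a * a + b * b) * Q u := by
  have h0 : pB Q u (x u) = 0 := pB_self_map_of_sq_neg_one h2 Q x hx hiso u
  have h1 : Q (a • u + b • x u) = Q (a • u) + Q (b • x u) + pB Q (a • u) (b • x u) := by
    rw [pB_apply]; ring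
  rw [h1, QuadraticMap.map_smul, QuadraticMap.map_smul, hiso u, map_smul, map_smul,
    LinearMap.smul_apply, h0, smul_eq_mul, smul_eq_mul, smul_eq_mul, smul_eq_mul]
  ring

/-- the plane `⟨u, x u⟩` is anisotropic, hence not of plus type -/
theorem not_plusQ_plane [FiniteDimensional F V] (h2 : (2 : F) ≠ 0) (hm1 : ¬ IsSquare (-1 : F))
    (Q : QuadraticForm F V) (x : V →ₗ[F] V) (hx : x * x = -1) (hiso : QIso Q x) (u : V)
    (hu : Q u ≠ 0) (hPd : finrank F ↥(Submodule.span F {u, x u}) = 2) :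
    ¬ PlusQ Q (Submodule.span F {u, x u}) := by
  rintro ⟨U, hUP, hU0, hUd⟩
  have hU1 : finrank F U = 1 := by omega
  have hUne : U ≠ ⊥ := by
    intro h
    rw [h, finrank_bot] at hU1
    omega
  obtain ⟨w, hwU, hw0⟩ := Submodule.exists_mem_ne_zero_of_ne_bot hUne
  obtain ⟨a, b, rfl⟩ := Submodule.mem_span_pair.mp (hUP hwU)
  have hQ := hU0 _ hwU
  rw [Q_plane h2 Q x hx hiso u a b] at hQ
  have hab : a * a + b * b = 0 := (mul_eq_zero.mp hQ).resolve_right hu
  by_cases hb : b = 0
  · subst hb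
    have ha : a = 0 := by
      have : a * a = 0 := by simpa using hab
      exact mul_self_eq_zero.mp this
    subst ha
    exact hw0 (by simp)
  · apply hm1
    refine ⟨a / b, ?_⟩
    field_simp
    linear_combination -hab

theorem plusQ_iff_of_sq_neg_one_aux [Fintype F] (h2 : (2 : F) ≠ 0) (hm1 : ¬ IsSquare (-1 : F))
    [FiniteDimensional F V] (Q : QuadraticForm F V) (x : V →ₗ[F] V)
    (hx : x * x = -1) (hiso : QIso Q x) :
    ∀ n : ℕ, ∀ W : Submodule F V, finrank F W = n → Inv x W → NonDeg (pB Q) W →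
      Even n ∧ (PlusQ Q W ↔ 4 ∣ n) := by
  have hR := Cfsg.Agent.Lib.Helper98.Os.isRefl_of_symm (pB_symm Q)
  intro n
  induction n using Nat.strong_induction_on with
  | _ n ih =>
  intro W hWd hW hWnd
  by_cases hne : W = ⊥
  · subst hne
    rw [finrank_bot] at hWd
    subst hWd
    exact ⟨⟨0, rfl⟩, ⟨fun _ => dvd_zero 4, fun _ => plusQ_bot Q⟩⟩
  · obtain ⟨u, huW, hu⟩ := exists_nonsingular h2 Q W hWnd hne
    obtain ⟨hPinv, hPnd, hPd⟩ := plane_of_sq_neg_one h2 Q x hx hiso u hu
    have hPW : Submodule.span F {u, x u} ≤ W := by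
      rw [Submodule.span_le]
      intro w hw
      rcases hw with rfl | hw
      · exact huW
      · rw [Set.mem_singleton_iff] at hw
        rw [hw]
        exact hW u huW
    obtain ⟨h1, h2', h3, h4⟩ := Cfsg.Agent.Lib.Helper98.Os.compl_props hR _ W hPnd hPW hWnd
    have hW'inv : Inv x ((pB Q).orthogonal (Submodule.span F {u, x u}) ⊓ W) :=
      (inv_orth 4 (by norm_num) x (sq_neg_one_pow_four x hx) hiso.iso _ hPinv).inf hW
    have hW'd : finrank F ↥((pB Q).orthogonal (Submodule.span F {u, x u}) ⊓ W) = n - 2 := by omega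
    have hn2 : 2 ≤ n := by omega
    obtain ⟨hev, hiff⟩ := ih (n - 2) (by omega) _ hW'd hW'inv h3
    have hort : Ort (pB Q) (Submodule.span F {u, x u})
        ((pB Q).orthogonal (Submodule.span F {u, x u}) ⊓ W) := by
      intro a ha z hz
      exact LinearMap.BilinForm.mem_orthogonal_iff.mp (Submodule.mem_inf.mp hz).1 a ha
    have hA := Cfsg.Agent.Lib.Helper28.OhP.plusQ_sup_iff Q _ _ hPnd h3 hort
      (by rw [hPd]; exact even_two) (by rw [hW'd]; exact hev)
    rw [h1] at hA
    have hnP := not_plusQ_plane h2 hm1 Q x hx hiso u hu hPd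
    obtain ⟨k, hk⟩ := hev
    refine ⟨⟨k + 1, by omega⟩, ?_⟩
    rw [hA]
    constructor
    · intro h
      have h' : ¬ PlusQ Q ((pB Q).orthogonal (Submodule.span F {u, x u}) ⊓ W) :=
        fun hw => hnP (h.mpr hw)
      rw [hiff] at h'
      omega
    · intro h4n
      constructor
      · intro hp
        exact absurd hp hnP
      · intro hw
        exfalso
        have := hiff.mp hw
        omega

/-- LEAF I4 with the exact spec signature. -/
theorem plusQ_iff_of_sq_neg_one [Fintype F] (h2 : (2 : F) ≠ 0) (hm1 : ¬ IsSquare (-1 : F))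
    [FiniteDimensional F V] (Q : QuadraticForm F V) (hV : NonDeg (pB Q) ⊤) (x : V →ₗ[F] V)
    (hx : x * x = -1) (hiso : QIso Q x) (W : Submodule F V) (hW : Inv x W)
    (hWnd : NonDeg (pB Q) W) : PlusQ Q W ↔ 4 ∣ finrank F W :=
  (plusQ_iff_of_sq_neg_one_aux h2 hm1 Q x hx hiso (finrank F W) W rfl hW hWnd).2

end Cfsg.Agent.Lib.Helper38.OhP
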