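import Cfsg.Agent.Lib.Helper38.OhP.Defs
import Cfsg.Agent.Lib.Helper50.SumForm
import Cfsg.Agent.Lib.Helper50.GeoBridge
import Cfsg.Agent.Lib.Helper50.OmegaAdjust
import Cfsg.Agent.Lib.Helper50.PlusForm
import Cfsg.Agent.Lib.Helper28.OhPA
import Cfsg.Agent.Lib.Helper68.OhPC0
import Cfsg.Agent.Lib.Helper04.OhPC1
import Cfsg.Agent.Lib.Helper21.OhPC2
import Cfsg.Agent.Lib.Helper29.OhPS1
import Cfsg.Agent.Lib.Helper08.OhPS2
import Cfsg.Agent.Lib.Helper86.OhPW1a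
import Cfsg.Agent.Lib.Helper16.OhPW2
import Cfsg.Agent.Lib.Helper57.OhPFC0
import Cfsg.Agent.Lib.Helper96.OhPFC1aux
import Cfsg.Agent.Lib.Helper82.OhPFC2a
import Cfsg.Agent.Lib.Helper26.OhPAR1
import Cfsg.Agent.Lib.Helper80.OhPAR2
import Cfsg.Agent.Lib.Helper94.OhPK2
import Cfsg.Agent.Lib.Helper05.OhPD1
import Cfsg.Agent.Lib.Helper04.OhPD2
import Cfsg.Agent.Lib.Helper53.OhPD3
import Cfsg.Agent.Lib.Helper21.OhPT0
import Cfsg.Agent.Lib.Helper48.OhPT1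
import Cfsg.Agent.Lib.Helper08.OhPT2
import Cfsg.Agent.Lib.Helper80.OhPT3
import Cfsg.Agent.Lib.Helper21.OhPN
import Cfsg.Agent.Lib.Helper16.OhPK1d
import Cfsg.Agent.Lib.Helper82.OhPI1
import Cfsg.Agent.Lib.Helper13.OhPI2
import Cfsg.Agent.Lib.Helper08.OhPI3
import Cfsg.Agent.Lib.Helper38.OhP.I4
import Cfsg.Agent.Lib.Helper13.OhPE1
import Cfsg.Agent.Lib.Helper98.OhPE2
import Cfsg.Agent.Lib.Helper08.OhPE3a
import Cfsg.Agent.Lib.Helper66.OhPE3b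

set_option autoImplicit false
set_option linter.unusedVariables false

/-!
# K-OhP (S5974): the leaves under fixed names (each one is a call of the delivered theorem)
-/

namespace Cfsg.Agent.Lib.Helper38.OhP.L

open Module Cfsg.Agent.Lib.Helper98.Elus Cfsg.Agent.Lib.Helper98.Sy Cfsg.Agent.Lib.Helper38.OhP

universe u
variable {F : Type u} [Field F] {V : Type u} [AddCommGroup V] [Module F V]

theorem plusQ_sup_iff [Fintype F] [FiniteDimensional F V] (Q : QuadraticForm F V)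
    (W1 W2 : Submodule F V) (h1 : NonDeg (pB Q) W1) (h2 : NonDeg (pB Q) W2) (hort : Ort (pB Q) W1 W2)
    (he1 : Even (finrank F W1)) (he2 : Even (finrank F W2)) :
    PlusQ Q (W1 ⊔ W2) ↔ (PlusQ Q W1 ↔ PlusQ Q W2) :=
  Cfsg.Agent.Lib.Helper28.OhP.plusQ_sup_iff Q W1 W2 h1 h2 hort he1 he2

theorem even_finrank_q [FiniteDimensional F V] (Q : QuadraticForm F V)
    (r : ℕ) [Fact r.Prime] (hr2 : r ≠ 2) (hrF : (r : F) ≠ 0) (y : V →ₗ[F] V)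
    (hy : y ^ r = 1) (hiso : QIso Q y) (M : Submodule F V) (hM1 : M ≤ V1 r y) (hM : Inv y M)
    (hMnd : NonDeg (pB Q) M) : Even (finrank F M) :=
  Cfsg.Agent.Lib.Helper68.OhP.even_finrank_q Q r hr2 hrF y hy hiso M hM1 hM hMnd

theorem exists_min_nonDeg_q [Fintype F] [FiniteDimensional F V] (Q : QuadraticForm F V)
    (hV : NonDeg (pB Q) ⊤) (p f : ℕ) [Fact p.Prime] (hF : Fintype.card F = p ^ f)
    (r : ℕ) [Fact r.Prime] (hpr : p ≠ r) (hr2 : r ≠ 2) (hrF : (r : F) ≠ 0) (y : V →ₗ[F] V)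
    (hy : y ^ r = 1) (hiso : QIso Q y)
    (U : Submodule F V) (hUV1 : U ≤ V1 r y) (hU : Inv y U) (hUnd : NonDeg (pB Q) U) (hUne : U ≠ ⊥) :
    ∃ W : Submodule F V, W ≤ U ∧ Inv y W ∧ NonDeg (pB Q) W ∧
      finrank F W = cOf (orderOf ((Fintype.card F : ℕ) : ZMod r)) :=
  Cfsg.Agent.Lib.Helper04.OhP.exists_min_nonDeg_q Q hV p f hF r hpr hr2 hrF y hy hiso U hUV1 hU hUnd hUne

theorem plusQ_iff_of_min [Fintype F] [FiniteDimensional F V] (Q : QuadraticForm F V)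
    (hV : NonDeg (pB Q) ⊤) (p f : ℕ) [Fact p.Prime] (hF : Fintype.card F = p ^ f)
    (r : ℕ) [Fact r.Prime] (hpr : p ≠ r) (hr2 : r ≠ 2) (hrF : (r : F) ≠ 0) (y : V →ₗ[F] V)
    (hy : y ^ r = 1) (hiso : QIso Q y)
    (W : Submodule F V) (hWV1 : W ≤ V1 r y) (hW : Inv y W) (hWnd : NonDeg (pB Q) W)
    (hWd : finrank F W = cOf (orderOf ((Fintype.card F : ℕ) : ZMod r))) :
    PlusQ Q W ↔ Odd (orderOf ((Fintype.card F : ℕ) : ZMod r)) :=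
  Cfsg.Agent.Lib.Helper21.OhP.plusQ_iff_of_min Q hV p f hF r hpr hr2 hrF y hy hiso W hWV1 hW hWnd hWd

theorem type_of_le_V1_q [Fintype F] [FiniteDimensional F V] (Q : QuadraticForm F V)
    (hV : NonDeg (pB Q) ⊤) (p f : ℕ) [Fact p.Prime] (hF : Fintype.card F = p ^ f)
    (r : ℕ) [Fact r.Prime] (hpr : p ≠ r) (hr2 : r ≠ 2) (hrF : (r : F) ≠ 0) (y : V →ₗ[F] V)
    (hy : y ^ r = 1) (hiso : QIso Q y)
    (U : Submodule F V) (hUV1 : U ≤ V1 r y) (hU : Inv y U) (hUnd : NonDeg (pB Q) U) :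
    cOf (orderOf ((Fintype.card F : ℕ) : ZMod r)) ∣ finrank F U ∧
      (PlusQ Q U ↔ tPlus (orderOf ((Fintype.card F : ℕ) : ZMod r))
        (finrank F U / cOf (orderOf ((Fintype.card F : ℕ) : ZMod r)))) :=
  Cfsg.Agent.Lib.Helper29.OhP.type_of_le_V1_q_of Q p f hF r hpr y hy hiso
    (fun W1 W2 h1 h2 ho e1 e2 => plusQ_sup_iff Q W1 W2 h1 h2 ho e1 e2)
    (fun U h1 h2 h3 h4 => exists_min_nonDeg_q Q hV p f hF r hpr hr2 hrF y hy hiso U h1 h2 h3 h4)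
    (fun W h1 h2 h3 h4 => plusQ_iff_of_min Q hV p f hF r hpr hr2 hrF y hy hiso W h1 h2 h3 h4)
    U hUV1 hU hUnd

theorem exists_nonDeg_inv_q [Fintype F] [FiniteDimensional F V] (Q : QuadraticForm F V)
    (hV : NonDeg (pB Q) ⊤) (p f : ℕ) [Fact p.Prime] (hF : Fintype.card F = p ^ f)
    (r : ℕ) [Fact r.Prime] (hpr : p ≠ r) (hr2 : r ≠ 2) (hrF : (r : F) ≠ 0) (y : V →ₗ[F] V)
    (hy : y ^ r = 1) (hiso : QIso Q y)
    (U : Submodule F V) (hUV1 : U ≤ V1 r y) (hU : Inv y U) (hUnd : NonDeg (pB Q) U)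
    (b : ℕ) (hb : cOf (orderOf ((Fintype.card F : ℕ) : ZMod r)) * b ≤ finrank F U) :
    ∃ W : Submodule F V, W ≤ U ∧ Inv y W ∧ NonDeg (pB Q) W ∧
      finrank F W = cOf (orderOf ((Fintype.card F : ℕ) : ZMod r)) * b :=
  Cfsg.Agent.Lib.Helper08.OhP.exists_nonDeg_inv_q Q hV p f hF r hpr hr2 hrF y hy hiso U hUV1 hU hUnd b hb

theorem exists_sub_of_type [Fintype F] [FiniteDimensional F V] (Q : QuadraticForm F V)
    (C : Submodule F V) (hC : NonDeg (pB Q) C) (hCe : Even (finrank F C))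
    (e : ℕ) (he : Even e) (he2 : 2 ≤ e) (hlt : e + 2 ≤ finrank F C) (t : Prop) :
    ∃ W : Submodule F V, W ≤ C ∧ NonDeg (pB Q) W ∧ finrank F W = e ∧ (PlusQ Q W ↔ t) :=
  Cfsg.Agent.Lib.Helper86.OhP.exists_sub_of_type_of Q
    (fun W1 W2 h1 h2 ho e1 e2 => plusQ_sup_iff Q W1 W2 h1 h2 ho e1 e2) C hC hCe e he he2 hlt t

theorem exists_plus_sub [Fintype F] [FiniteDimensional F V] (Q : QuadraticForm F V)
    (C : Submodule F V) (hC : NonDeg (pB Q) C) (e : ℕ) (he : Even e) (hlt : e < finrank F C) :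
    ∃ W : Submodule F V, W ≤ C ∧ NonDeg (pB Q) W ∧ finrank F W = e ∧ PlusQ Q W :=
  Cfsg.Agent.Lib.Helper16.OhP.exists_plus_sub Q C hC e he hlt

theorem exists_shape [Fintype F] [FiniteDimensional F V] (Q : QuadraticForm F V)
    (hV : NonDeg (pB Q) ⊤) (hVp : PlusQ Q ⊤) (p f : ℕ) [Fact p.Prime] (hF : Fintype.card F = p ^ f)
    (r : ℕ) [Fact r.Prime] (hpr : p ≠ r) (hr2 : r ≠ 2) (hrF : (r : F) ≠ 0) (y : V →ₗ[F] V)
    (hy : y ^ r = 1) (hy1 : y ≠ 1) (hiso : QIso Q y)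
    (i c : ℕ) (hi : i = orderOf ((Fintype.card F : ℕ) : ZMod r)) (hc : c = cOf i)
    (d : ℕ) (hdim : finrank F V = 2 * d) :
    ∃ T : ℕ, 1 ≤ T ∧ T * c ≤ 2 * d ∧ finrank F (V1 r y) = T * c ∧ finrank F (V0 y) = 2 * d - T * c ∧
      (0 < 2 * d - T * c ∨ tPlus i T) :=
  Cfsg.Agent.Lib.Helper57.OhP.exists_shape_of Q hV hVp p f hF r hpr hr2 hrF y hy hy1 hiso i c hi hc d hdim
    (fun hnd => type_of_le_V1_q Q hV p f hF r hpr hr2 hrF y hy hiso (V1 r y) le_rfl (inv_V1 r y) hnd)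

theorem good_of_fixed [Fintype F] [FiniteDimensional F V] (Q : QuadraticForm F V)
    (hV : NonDeg (pB Q) ⊤) (hVp : PlusQ Q ⊤) (p f : ℕ) [Fact p.Prime] (hF : Fintype.card F = p ^ f)
    (r : ℕ) [Fact r.Prime] (hpr : p ≠ r) (hr2 : r ≠ 2) (hrF : (r : F) ≠ 0) (y : V →ₗ[F] V)
    (hy : y ^ r = 1) (hiso : QIso Q y)
    (i c : ℕ) (hi : i = orderOf ((Fintype.card F : ℕ) : ZMod r)) (hc : c = cOf i)
    (T k : ℕ) (hT : finrank F (V1 r y) = T * c) (hk : finrank F (V0 y) = k)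
    (m : ℕ) (W : Submodule F V) (hW : Inv y W) (hWnd : NonDeg (pB Q) W) (hWd : finrank F W = m)
    (hWp : PlusQ Q W) : ∃ j : ℕ, j ≤ T ∧ j * c ≤ m ∧ Good i c T k m j :=
  Cfsg.Agent.Lib.Helper96.OhP.good_of_fixed_aux Q hV hVp p f hF r hpr hr2 hrF y hy hiso i c hi hc T k hT hk m W hW hWnd hWd hWp
    (fun W1 W2 h1 h2 ho e1 e2 => plusQ_sup_iff Q W1 W2 h1 h2 ho e1 e2)
    (fun U h1 h2 h3 => by subst hi; subst hc; exact type_of_le_V1_q Q hV p f hF r hpr hr2 hrF y hy hiso U h1 h2 h3)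

theorem fixed_of_good [Fintype F] [FiniteDimensional F V] (Q : QuadraticForm F V)
    (hV : NonDeg (pB Q) ⊤) (hVp : PlusQ Q ⊤) (p f : ℕ) [Fact p.Prime] (hF : Fintype.card F = p ^ f)
    (r : ℕ) [Fact r.Prime] (hpr : p ≠ r) (hr2 : r ≠ 2) (hrF : (r : F) ≠ 0) (y : V →ₗ[F] V)
    (hy : y ^ r = 1) (hiso : QIso Q y)
    (i c : ℕ) (hi : i = orderOf ((Fintype.card F : ℕ) : ZMod r)) (hc : c = cOf i)
    (T k : ℕ) (hT : finrank F (V1 r y) = T * c) (hk : finrank F (V0 y) = k)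
    (m : ℕ) (hme : Even m) (j : ℕ) (hjT : j ≤ T) (hjm : j * c ≤ m) (hg : Good i c T k m j) :
    ∃ W : Submodule F V, Inv y W ∧ NonDeg (pB Q) W ∧ finrank F W = m ∧ PlusQ Q W := by
  subst hi
  subst hc
  exact Cfsg.Agent.Lib.Helper82.OhP.fixed_of_good_of Q hV hVp r hrF y hy hiso _ _ rfl
    (cOf_pos _ (orderOf_card_pos p f hF r hpr))
    (fun W1 W2 h1 h2 ho e1 e2 => plusQ_sup_iff Q W1 W2 h1 h2 ho e1 e2)
    (fun U h1 h2 h3 => type_of_le_V1_q Q hV p f hF r hpr hr2 hrF y hy hiso U h1 h2 h3)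
    (fun U h1 h2 h3 b hb => exists_nonDeg_inv_q Q hV p f hF r hpr hr2 hrF y hy hiso U h1 h2 h3 b hb)
    (fun C h1 h2 e h3 h4 h5 t => exists_sub_of_type Q C h1 h2 e h3 h4 h5 t)
    T k hT hk m hme j hjT hjm hg

theorem arith_fix (i c d m T : ℕ) (hi : 0 < i) (hc : c = cOf i) (hd : 4 ≤ d) (hm : 2 ≤ m) (hme : Even m)
    (hmd : m < d) (hT1 : 1 ≤ T) (hTn : T * c ≤ 2 * d) (hal : 0 < 2 * d - T * c ∨ tPlus i T)
    (hR : RhsOdd i c d m) : ∃ j : ℕ, j ≤ T ∧ j * c ≤ m ∧ Good i c T (2 * d - T * c) m j :=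
  Cfsg.Agent.Lib.Helper26.OhP.arith_fix i c d m T hi hc hd hm hme hmd hT1 hTn hal hR

theorem arith_derange (i c d m : ℕ) (hi : 0 < i) (hc : c = cOf i) (hd : 4 ≤ d) (hm : 2 ≤ m) (hme : Even m)
    (hmd : m < d)
    (hw : ∃ j : ℕ, j < m / 2 ∧ (i ∣ d - j ∨ (Even i ∧ (d - j - 1) % i = i / 2)))
    (hR : ¬ RhsOdd i c d m) :
    ∃ T : ℕ, 1 ≤ T ∧ T * c ≤ 2 * d ∧ (0 < 2 * d - T * c ∨ tPlus i T) ∧
      ∀ j : ℕ, j ≤ T → j * c ≤ m → ¬ Good i c T (2 * d - T * c) m j :=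
  Cfsg.Agent.Lib.Helper80.OhP.arith_derange i c d m hi hc hd hm hme hmd hw hR

theorem order_cases (q r a b : ℕ) [Fact r.Prime] (hr2 : r ≠ 2) (hq : ¬ r ∣ q)
    (h : r ∣ (q ^ a - 1) * (q ^ b + 1)) :
    orderOf (q : ZMod r) ∣ a ∨
      (Even (orderOf (q : ZMod r)) ∧ b % orderOf (q : ZMod r) = orderOf (q : ZMod r) / 2) :=
  Cfsg.Agent.Lib.Helper94.OhP.order_cases q r a b hr2 hq h

theorem exists_block_q [Fintype F] (p f : ℕ) [Fact p.Prime] (hF : Fintype.card F = p ^ f)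
    (r : ℕ) [Fact r.Prime] (hpr : p ≠ r) (hr2 : r ≠ 2) (hrF : (r : F) ≠ 0) :
    ∃ (V : Type u) (_ : AddCommGroup V) (_ : Module F V) (_ : FiniteDimensional F V)
      (Q : QuadraticForm F V) (y : V →ₗ[F] V),
      NonDeg (pB Q) ⊤ ∧ QIso Q y ∧ y ^ r = 1 ∧
      finrank F V = cOf (orderOf ((Fintype.card F : ℕ) : ZMod r)) ∧ V0 y = ⊥ :=
  Cfsg.Agent.Lib.Helper05.OhP.exists_block_q p f hF r hpr hr2 hrF

theorem exists_space_of_type [Fintype F] (k : ℕ) (hk : Even k) (hk2 : 2 ≤ k) (t : Prop) :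
    ∃ (V : Type u) (_ : AddCommGroup V) (_ : Module F V) (_ : FiniteDimensional F V)
      (Q : QuadraticForm F V), NonDeg (pB Q) ⊤ ∧ finrank F V = k ∧ (PlusQ Q ⊤ ↔ t) :=
  Cfsg.Agent.Lib.Helper04.OhP.exists_space_of_type k hk hk2 t

theorem exists_model_q [Fintype F] (p f : ℕ) [Fact p.Prime] (hF : Fintype.card F = p ^ f)
    (r : ℕ) [Fact r.Prime] (hpr : p ≠ r) (hr2 : r ≠ 2) (hrF : (r : F) ≠ 0)
    (i c : ℕ) (hi : i = orderOf ((Fintype.card F : ℕ) : ZMod r)) (hc : c = cOf i)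
    (T k : ℕ) (hT : 1 ≤ T) (hk : Even k) (hal : 0 < k ∨ tPlus i T) :
    ∃ (V : Type u) (_ : AddCommGroup V) (_ : Module F V) (_ : FiniteDimensional F V)
      (Q : QuadraticForm F V) (y : V →ₗ[F] V),
      NonDeg (pB Q) ⊤ ∧ PlusQ Q ⊤ ∧ QIso Q y ∧ y ^ r = 1 ∧ y ≠ 1 ∧ finrank F V = T * c + k ∧
      finrank F (V1 r y) = T * c ∧ finrank F (V0 y) = k :=
  Cfsg.Agent.Lib.Helper53.OhP.exists_model_q_of p f hF r hpr hr2 hrF i c hi hc T k hT hk hal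
    (exists_block_q p f hF r hpr hr2 hrF)
    (fun k hk hk2 t => exists_space_of_type k hk hk2 t)
    (fun V _ _ _ Q W1 W2 h1 h2 ho e1 e2 => plusQ_sup_iff Q W1 W2 h1 h2 ho e1 e2)
    (fun V _ _ _ Q hV y hy hiso U hU1 hU hUnd => type_of_le_V1_q Q hV p f hF r hpr hr2 hrF y hy hiso U hU1 hU hUnd)

theorem qiso_of_mem_omegaGL (d : ℕ) (x : GL (Fin d ⊕ Fin d) F)
    (hx : x ∈ Cfsg.Geo.omegaGL (Cfsg.quadFormPlus d F)) :
    QIso (Q0 d F) (Matrix.toLin' (x : Matrix (Fin d ⊕ Fin d) (Fin d ⊕ Fin d) F)) :=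
  Cfsg.Agent.Lib.Helper21.OhP.qiso_of_mem_omegaGL d x hx

theorem isHyp_iff (d m : ℕ) (W : Submodule F (Fin d ⊕ Fin d → F)) :
    IsHyp d m W ↔ (finrank F W = m ∧ NonDeg (pB (Q0 d F)) W ∧ PlusQ (Q0 d F) W) :=
  Cfsg.Agent.Lib.Helper21.OhP.isHyp_iff d m W

theorem nonDeg_Q0 (d : ℕ) : NonDeg (pB (Q0 d F)) ⊤ :=
  Cfsg.Agent.Lib.Helper21.OhP.nonDeg_Q0 d

theorem plusQ_Q0 (d : ℕ) : PlusQ (Q0 d F) ⊤ :=
  Cfsg.Agent.Lib.Helper21.OhP.plusQ_Q0 d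

theorem finrank_Q0 (d : ℕ) : finrank F (Fin d ⊕ Fin d → F) = 2 * d :=
  Cfsg.Agent.Lib.Helper21.OhP.finrank_Q0 d

theorem map_le_iff_inv' (d : ℕ) (g : (Fin d ⊕ Fin d → F) →ₗ[F] (Fin d ⊕ Fin d → F))
    (W : Submodule F (Fin d ⊕ Fin d → F)) : W.map g ≤ W ↔ Inv g W :=
  Cfsg.Agent.Lib.Helper21.OhP.map_le_iff_inv' d g W

theorem exists_isometry_std [Fintype F] [FiniteDimensional F V] (Q : QuadraticForm F V)
    (hV : NonDeg (pB Q) ⊤) (hVp : PlusQ Q ⊤) (d : ℕ) (hdim : finrank F V = 2 * d) :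
    ∃ e : V ≃ₗ[F] (Fin d ⊕ Fin d → F), ∀ v, Cfsg.quadFormPlus d F (e v) = Q v :=
  Cfsg.Agent.Lib.Helper48.OhP.exists_isometry_std Q hV hVp d hdim

theorem mem_omegaGL_of_pow_odd [Fintype F] (d : ℕ) (hd : 3 ≤ d) (x : GL (Fin d ⊕ Fin d) F)
    (hx : x ∈ Cfsg.isometryGroup F (Cfsg.quadFormPlus d F)) (r : ℕ) (hr : Odd r) (hxr : x ^ r = 1) :
    x ∈ Cfsg.Geo.omegaGL (Cfsg.quadFormPlus d F) :=
  Cfsg.Agent.Lib.Helper08.OhP.mem_omegaGL_of_pow_odd d hd x hx r hr hxr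

theorem exists_gl_of_model [Fintype F] [FiniteDimensional F V] (d m : ℕ) (hd : 3 ≤ d)
    (r : ℕ) [Fact r.Prime] (hr2 : r ≠ 2) (Q : QuadraticForm F V) (y : V →ₗ[F] V)
    (hV : NonDeg (pB Q) ⊤) (hVp : PlusQ Q ⊤) (hdim : finrank F V = 2 * d) (hiso : QIso Q y)
    (hy : y ^ r = 1) (hy1 : y ≠ 1) :
    ∃ x : GL (Fin d ⊕ Fin d) F, x ∈ Cfsg.Geo.omegaGL (Cfsg.quadFormPlus d F) ∧
      (∃ z : F, ((x ^ r : GL (Fin d ⊕ Fin d) F) : Matrix (Fin d ⊕ Fin d) (Fin d ⊕ Fin d) F) =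
        z • (1 : Matrix (Fin d ⊕ Fin d) (Fin d ⊕ Fin d) F)) ∧
      (∀ z : F, (x : Matrix (Fin d ⊕ Fin d) (Fin d ⊕ Fin d) F) ≠
        z • (1 : Matrix (Fin d ⊕ Fin d) (Fin d ⊕ Fin d) F)) ∧
      ∀ W : Submodule F (Fin d ⊕ Fin d → F), IsHyp d m W →
        W.map (Matrix.toLin' (x : Matrix (Fin d ⊕ Fin d) (Fin d ⊕ Fin d) F)) ≤ W →
        ∃ W' : Submodule F V, Inv y W' ∧ NonDeg (pB Q) W' ∧ finrank F W' = m ∧ PlusQ Q W' :=
  Cfsg.Agent.Lib.Helper80.OhP.exists_gl_of_model d m hd r hr2 Q y hV hVp hdim hiso hy hy1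

theorem scalar_sq_eq_one (d : ℕ) (hd : 1 ≤ d) (x : GL (Fin d ⊕ Fin d) F)
    (hx : x ∈ Cfsg.Geo.omegaGL (Cfsg.quadFormPlus d F)) (k : ℕ) (z : F)
    (hz : ((x ^ k : GL (Fin d ⊕ Fin d) F) : Matrix (Fin d ⊕ Fin d) (Fin d ⊕ Fin d) F) =
      z • (1 : Matrix (Fin d ⊕ Fin d) (Fin d ⊕ Fin d) F)) : z * z = 1 :=
  Cfsg.Agent.Lib.Helper21.OhP.scalar_sq_eq_one d hd x hx k z hz

theorem exists_normalized (d : ℕ) (hd : 1 ≤ d) (r : ℕ) (hr : Odd r) (x : GL (Fin d ⊕ Fin d) F)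
    (hx : x ∈ Cfsg.Geo.omegaGL (Cfsg.quadFormPlus d F)) (z : F)
    (hz : ((x ^ r : GL (Fin d ⊕ Fin d) F) : Matrix (Fin d ⊕ Fin d) (Fin d ⊕ Fin d) F) =
      z • (1 : Matrix (Fin d ⊕ Fin d) (Fin d ⊕ Fin d) F))
    (hns : ∀ z : F, (x : Matrix (Fin d ⊕ Fin d) (Fin d ⊕ Fin d) F) ≠
      z • (1 : Matrix (Fin d ⊕ Fin d) (Fin d ⊕ Fin d) F)) :
    ∃ y : (Fin d ⊕ Fin d → F) →ₗ[F] (Fin d ⊕ Fin d → F), QIso (Q0 d F) y ∧ y ^ r = 1 ∧ y ≠ 1 ∧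
      ∀ W : Submodule F (Fin d ⊕ Fin d → F), Inv y W →
        W.map (Matrix.toLin' (x : Matrix (Fin d ⊕ Fin d) (Fin d ⊕ Fin d) F)) ≤ W :=
  Cfsg.Agent.Lib.Helper21.OhP.exists_normalized d hd r hr x hx z hz hns

theorem exists_of_dvd_card_hyp [Fintype F] (d e : ℕ) (he : 1 ≤ e) (hed : 2 * e < d)
    (r : ℕ) [Fact r.Prime] (hrF : (r : F) ≠ 0)
    (hr : r ∣ Nat.card {W : Submodule F (Fin d ⊕ Fin d → F) // IsHyp d (2 * e) W}) :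
    ∃ j : ℕ, j < e ∧
      r ∣ (Fintype.card F ^ (d - j) - 1) * (Fintype.card F ^ (d - j - 1) + 1) :=
  Cfsg.Agent.Lib.Helper16.OhP.exists_of_dvd_card_hyp d e he hed r hrF hr

theorem exists_fixed_invol_q [Fintype F] (h2 : (2 : F) ≠ 0) [FiniteDimensional F V]
    (Q : QuadraticForm F V) (hV : NonDeg (pB Q) ⊤) (g : V →ₗ[F] V) (hg : g * g = 1)
    (hiso : QIso Q g) (m : ℕ) (hme : Even m) (hlt : 2 * m < finrank F V) :
    ∃ W : Submodule F V, Inv g W ∧ NonDeg (pB Q) W ∧ finrank F W = m ∧ PlusQ Q W :=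
  Cfsg.Agent.Lib.Helper82.OhP.exists_fixed_invol_q h2 Q hV g hg hiso m hme hlt

theorem exists_fixed_sq_neg_one_split [Fintype F] (h2 : (2 : F) ≠ 0) [FiniteDimensional F V]
    (Q : QuadraticForm F V) (hV : NonDeg (pB Q) ⊤) (x : V →ₗ[F] V) (hx : x * x = -1)
    (hiso : QIso Q x) (ω : F) (hω : ω * ω = -1) (m : ℕ) (hme : Even m) (hm : m ≤ finrank F V) :
    ∃ W : Submodule F V, Inv x W ∧ NonDeg (pB Q) W ∧ finrank F W = m ∧ PlusQ Q W :=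
  Cfsg.Agent.Lib.Helper13.OhP.exists_fixed_sq_neg_one_split h2 Q hV x hx hiso ω hω m hme hm

theorem exists_nonDeg_inv_sq_neg_one [Fintype F] (h2 : (2 : F) ≠ 0) [FiniteDimensional F V]
    (Q : QuadraticForm F V) (hV : NonDeg (pB Q) ⊤) (x : V →ₗ[F] V) (hx : x * x = -1)
    (hiso : QIso Q x) (m : ℕ) (hme : Even m) (hm : m ≤ finrank F V) :
    ∃ W : Submodule F V, Inv x W ∧ NonDeg (pB Q) W ∧ finrank F W = m :=
  Cfsg.Agent.Lib.Helper08.OhP.exists_nonDeg_inv_sq_neg_one h2 Q hV x hx hiso m hme hm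

theorem plusQ_iff_of_sq_neg_one [Fintype F] (h2 : (2 : F) ≠ 0) (hm1 : ¬ IsSquare (-1 : F))
    [FiniteDimensional F V] (Q : QuadraticForm F V) (hV : NonDeg (pB Q) ⊤) (x : V →ₗ[F] V)
    (hx : x * x = -1) (hiso : QIso Q x) (W : Submodule F V) (hW : Inv x W)
    (hWnd : NonDeg (pB Q) W) : PlusQ Q W ↔ 4 ∣ finrank F W :=
  Cfsg.Agent.Lib.Helper38.OhP.plusQ_iff_of_sq_neg_one h2 hm1 Q hV x hx hiso W hW hWnd

theorem exists_piece_char2 [CharP F 2] [FiniteDimensional F V] (Q : QuadraticForm F V)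
    (g : V →ₗ[F] V) (hg : g * g = 1) (hiso : QIso Q g)
    (U : Submodule F V) (hU : Inv g U) (hUnd : NonDeg (pB Q) U) (hUne : U ≠ ⊥) :
    ∃ P : Submodule F V, P ≤ U ∧ Inv g P ∧ NonDeg (pB Q) P ∧
      (finrank F P = 2 ∨ (finrank F P = 4 ∧ PlusQ Q P)) :=
  Cfsg.Agent.Lib.Helper13.OhP.exists_piece_char2 Q g hg hiso U hU hUnd hUne

theorem exists_fixed_plus_char2 [Fintype F] [CharP F 2] [FiniteDimensional F V]
    (Q : QuadraticForm F V) (hV : NonDeg (pB Q) ⊤) (hVp : PlusQ Q ⊤) (d : ℕ)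
    (hdim : finrank F V = 2 * d) (g : V →ₗ[F] V) (hg : g * g = 1) (hiso : QIso Q g)
    (m : ℕ) (hme : Even m) (hmd : m < d) (hcond : Odd d ∨ 4 ∣ m) :
    ∃ W : Submodule F V, Inv g W ∧ NonDeg (pB Q) W ∧ finrank F W = m ∧ PlusQ Q W :=
  Cfsg.Agent.Lib.Helper98.OhP.exists_fixed_plus_char2_of Q hV hVp d hdim g hg hiso m hme hmd hcond
    (fun U hU hUnd hUne => exists_piece_char2 Q g hg hiso U hU hUnd hUne)
    (fun W1 W2 h1 h2 hort he1 he2 => plusQ_sup_iff Q W1 W2 h1 h2 hort he1 he2)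

theorem four_dvd_finrank_of_inv [CharP F 2] [FiniteDimensional F V] (Q : QuadraticForm F V)
    (hV : NonDeg (pB Q) ⊤) (g : V →ₗ[F] V) (hg : g * g = 1) (hiso : QIso Q g)
    (hsing : ∀ v, Q ((g - 1) v) = 0)
    (hrk : 2 * finrank F (LinearMap.range (g - 1)) = finrank F V)
    (W : Submodule F V) (hW : Inv g W) (hWnd : NonDeg (pB Q) W) : 4 ∣ finrank F W :=
  Cfsg.Agent.Lib.Helper08.OhP.four_dvd_finrank_of_inv Q hV g hg hiso hsing hrk W hW hWnd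

theorem exists_a_invol [Fintype F] [CharP F 2] (d : ℕ) (hd : Even d) (hd4 : 4 ≤ d) :
    ∃ x : GL (Fin d ⊕ Fin d) F, x ∈ Cfsg.Geo.omegaGL (Cfsg.quadFormPlus d F) ∧
      (x : Matrix (Fin d ⊕ Fin d) (Fin d ⊕ Fin d) F) * (x : Matrix (Fin d ⊕ Fin d) (Fin d ⊕ Fin d) F) = 1 ∧
      (∀ z : F, (x : Matrix (Fin d ⊕ Fin d) (Fin d ⊕ Fin d) F) ≠
        z • (1 : Matrix (Fin d ⊕ Fin d) (Fin d ⊕ Fin d) F)) ∧
      (∀ v, Q0 d F ((Matrix.toLin' (x : Matrix (Fin d ⊕ Fin d) (Fin d ⊕ Fin d) F) - 1) v) = 0) ∧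
      2 * finrank F (LinearMap.range
        (Matrix.toLin' (x : Matrix (Fin d ⊕ Fin d) (Fin d ⊕ Fin d) F) - 1)) = 2 * d :=
  Cfsg.Agent.Lib.Helper66.OhP.exists_a_invol d hd hd4

end Cfsg.Agent.Lib.Helper38.OhP.L
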